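import Groth.Agent.Disc957.Noether
import Groth.Agent.DiffLib.Basic
import Mathlib.RingTheory.PicardGroup

/-!
# The Tate generator of the inverse different
-/

set_option autoImplicit false

namespace Groth.Agent.H1Tate

open TensorProduct MvPolynomial Groth.Agent.Disc957

universe u

variable {A : Type u} [CommRing A] {n : ℕ}

theorem exists_generator (f : Fin n → MvPolynomial (Fin n) A)
    [Algebra.QuasiFinite A (MvPolynomial (Fin n) A ⧸ Ideal.span (Set.range f))] :
    ∃ ξ : (MvPolynomial (Fin n) A ⧸ Ideal.span (Set.range f)) ⊗[A] (MvPolynomial (Fin n) A ⧸ Ideal.span (Set.range f)),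
      Submodule.annihilator (RingHom.ker (Algebra.TensorProduct.lmul'
        (S := MvPolynomial (Fin n) A ⧸ Ideal.span (Set.range f)) A)) = Ideal.span {ξ} ∧
      Algebra.TensorProduct.lmul' A ξ = Ideal.Quotient.mk (Ideal.span (Set.range f))
          (Matrix.det (Matrix.of fun i j => pderiv j (f i))) := by
  classical
  let π : (MvPolynomial (Fin n) A) →ₐ[A] (MvPolynomial (Fin n) A ⧸ Ideal.span (Set.range f)) := Ideal.Quotient.mkₐ A (Ideal.span (Set.range f))
  have hgci := isRelGCI_of_quasiFinite f
  haveI hflat : Module.Flat A (MvPolynomial (Fin n) A ⧸ Ideal.span (Set.range f)) := (Groth.Agent.S9147.result A n n f hgci).1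
  let b : Fin n → (MvPolynomial (Fin n) A ⧸ Ideal.span (Set.range f)) := fun j => π (X j)
  let E : ((MvPolynomial (Fin n) A) ⊗[A] (MvPolynomial (Fin n) A ⧸ Ideal.span (Set.range f))) ≃ₐ[A] (MvPolynomial (Fin n) (MvPolynomial (Fin n) A ⧸ Ideal.span (Set.range f))) := (Algebra.TensorProduct.comm A (MvPolynomial (Fin n) A) (MvPolynomial (Fin n) A ⧸ Ideal.span (Set.range f))).trans
    ((MvPolynomial.algebraTensorAlgEquiv A (MvPolynomial (Fin n) A ⧸ Ideal.span (Set.range f))).restrictScalars A)
  have hE : ∀ (p : (MvPolynomial (Fin n) A)) (x : (MvPolynomial (Fin n) A ⧸ Ideal.span (Set.range f))), E (p ⊗ₜ x) = C x * MvPolynomial.map (algebraMap A (MvPolynomial (Fin n) A ⧸ Ideal.span (Set.range f))) p := fun p x => by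
    show MvPolynomial.algebraTensorAlgEquiv A (MvPolynomial (Fin n) A ⧸ Ideal.span (Set.range f)) (x ⊗ₜ p) = _
    rw [MvPolynomial.algebraTensorAlgEquiv_tmul, Algebra.smul_def]
    rfl
  have hev : ∀ p : (MvPolynomial (Fin n) A), eval b (MvPolynomial.map (algebraMap A (MvPolynomial (Fin n) A ⧸ Ideal.span (Set.range f))) p) = π p := fun p => by
    rw [eval_map, ← aeval_def]
    exact AlgHom.congr_fun (MvPolynomial.algHom_ext fun j => by rw [aeval_X] :
      aeval b = π) p
  let μ := Algebra.TensorProduct.productMap π (AlgHom.id A (MvPolynomial (Fin n) A ⧸ Ideal.span (Set.range f)))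
  have hμ : ∀ t, μ t = eval b (E t) := fun t => by
    induction t with
    | zero => simp
    | add x y hx hy => rw [map_add, map_add, map_add, hx, hy]
    | tmul p x =>
      rw [hE, map_mul, eval_C, hev]
      exact (Algebra.TensorProduct.productMap_apply_tmul _ _ _ _).trans (mul_comm _ _)
  let g : Fin n → (MvPolynomial (Fin n) A) ⊗[A] (MvPolynomial (Fin n) A ⧸ Ideal.span (Set.range f)) := fun j => E.symm (X j - C (b j))
  have hgker : Ideal.span (Set.range g) = RingHom.ker μ := by
    have : RingHom.ker μ = (RingHom.ker (eval b)).map (E.symm : (MvPolynomial (Fin n) (MvPolynomial (Fin n) A ⧸ Ideal.span (Set.range f))) →+* (MvPolynomial (Fin n) A) ⊗[A] (MvPolynomial (Fin n) A ⧸ Ideal.span (Set.range f))) := by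
      ext t
      rw [RingHom.mem_ker, hμ]
      constructor
      · intro h
        exact E.symm_apply_apply t ▸ Ideal.mem_map_of_mem _ h
      · intro h
        obtain ⟨q, hq, rfl⟩ := (Ideal.mem_map_iff_of_surjective _ E.symm.surjective).mp h
        refine Eq.trans (congrArg (eval b) (E.apply_symm_apply q)) ?_
        exact hq
    rw [this, ← span_X_sub_C, Ideal.map_span, ← Set.range_comp]
    rfl
  have hg : LCI.IsKoszulRegularSeq ((MvPolynomial (Fin n) A) ⊗[A] (MvPolynomial (Fin n) A ⧸ Ideal.span (Set.range f))) (List.ofFn g) := by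
    have h := Groth.Agent.Synt29.isKoszulRegularSeq_map_equiv (S := (MvPolynomial (Fin n) A) ⊗[A] (MvPolynomial (Fin n) A ⧸ Ideal.span (Set.range f))) E.symm.toRingEquiv
      (List.ofFn fun j => X j - C (b j)) (koszul_X_sub_C b)
    rw [List.map_ofFn] at h
    exact h
  have hmem : ∀ i, f i ⊗ₜ[A] (1 : (MvPolynomial (Fin n) A ⧸ Ideal.span (Set.range f))) ∈ Ideal.span (Set.range g) := fun i => by
    rw [hgker, RingHom.mem_ker]
    refine (Algebra.TensorProduct.productMap_apply_tmul _ _ _ _).trans ?_
    rw [show π (f i) = 0 from Ideal.Quotient.eq_zero_iff_mem.mpr (Ideal.subset_span ⟨i, rfl⟩), zero_mul]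
  choose c hc using fun i => Ideal.mem_span_range_iff_exists_fun.mp (hmem i)
  have hJ : ∀ i k, eval b (E (c i k)) = π (pderiv k (f i)) := fun i k => by
    have h := congrArg (fun t => eval b (pderiv k (E t))) (hc i).symm
    simp only [map_sum, map_mul, g, AlgEquiv.apply_symm_apply, hE, map_one, one_mul, pderiv_map] at h
    rw [hev] at h
    rw [h]
    simp [Derivation.leibniz, Pi.single_apply]
  have h2 := Groth.Agent.S2235.result f (Groth.Agent.S9254.result A n n f hgci) g hg hgker (Matrix.of c)
    (fun i => (hc i).symm)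
  let E' : ((MvPolynomial (Fin n) A) ⊗[A] (MvPolynomial (Fin n) A ⧸ Ideal.span (Set.range f))) →+*
      MvPolynomial (Fin n) (MvPolynomial (Fin n) A ⧸ Ideal.span (Set.range f)) :=
    { toFun := fun t => E t
      map_one' := map_one E
      map_mul' := fun x y => map_mul E x y
      map_zero' := map_zero E
      map_add' := fun x y => map_add E x y }
  have hd := RingHom.map_det (S := MvPolynomial (Fin n) (MvPolynomial (Fin n) A ⧸ Ideal.span (Set.range f))) E' (Matrix.of c)
  refine ⟨_, h2, ?_⟩
  show ((Algebra.TensorProduct.lmul' A (S := (MvPolynomial (Fin n) A ⧸ Ideal.span (Set.range f)))).comp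
    (Algebra.TensorProduct.map π (AlgHom.id A (MvPolynomial (Fin n) A ⧸ Ideal.span (Set.range f))))) (Matrix.of c).det = π _
  rw [show (Algebra.TensorProduct.lmul' A (S := (MvPolynomial (Fin n) A ⧸ Ideal.span (Set.range f)))).comp
    (Algebra.TensorProduct.map π (AlgHom.id A (MvPolynomial (Fin n) A ⧸ Ideal.span (Set.range f)))) = μ from
      Algebra.TensorProduct.ext' fun p x => by simp [μ], hμ,
    show π (Matrix.det (Matrix.of fun i j => pderiv j (f i))) =
      (Matrix.of fun i j => π (pderiv j (f i))).det from AlgHom.map_det π _,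
    show E (Matrix.of c).det = (Matrix.of fun i j => E (c i j)).det from
      hd,
    show eval b (Matrix.of fun i j => E (c i j)).det = (Matrix.of fun i j => eval b (E (c i j))).det from
      RingHom.map_det (R := MvPolynomial (Fin n) (MvPolynomial (Fin n) A ⧸ Ideal.span (Set.range f))) (S := MvPolynomial (Fin n) A ⧸ Ideal.span (Set.range f)) (eval b) _]
  congr 1
  ext i k
  exact hJ i k


theorem exists_equiv {B : Type u} [CommRing B] [Algebra A B] [Module.Finite A B] [Module.Free A B]
    [Module.Invertible B (Disc.Omega A B)] (ξ : B ⊗[A] B)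
    (hJ : Submodule.annihilator (RingHom.ker (Algebra.TensorProduct.lmul' (S := B) A)) = Ideal.span {ξ}) :
    ∃ e : B ≃ₗ[B] Disc.Omega A B, e (Algebra.TensorProduct.lmul' A ξ) = Disc.Omega.trace A B := by
  classical
  let b := Module.Free.chooseBasis A B
  have hξ : ξ ∈ Submodule.annihilator (RingHom.ker (Algebra.TensorProduct.lmul' (S := B) A)) :=
    hJ ▸ Ideal.mem_span_singleton_self ξ
  let Φ : Disc.Omega A B →ₗ[B] B :=
    { toFun := fun l => DiffLib.ev l ξ
      map_add' := fun l l' => DiffLib.ev_add l l' ξ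
      map_smul' := fun c l => by
        rw [DiffLib.ev_smul, (DiffLib.mem_annihilator_iff ξ).mp hξ c, ← DiffLib.mul_ev]; rfl }
  have hgen : ∀ s : B ⊗[A] B, ∀ l : Disc.Omega A B,
      DiffLib.ev l (s * ξ) = Algebra.TensorProduct.lmul' A s * Φ l := by
    intro s l
    induction s using TensorProduct.induction_on with
    | zero => simp
    | add x y hx hy => rw [add_mul, map_add, map_add, hx, hy, add_mul]
    | tmul x y =>
      rw [show x ⊗ₜ[A] y = (1 ⊗ₜ[A] y) * (x ⊗ₜ[A] 1) by simp, mul_assoc,
        (DiffLib.mem_annihilator_iff ξ).mp hξ x, ← mul_assoc, Algebra.TensorProduct.tmul_mul_tmul, one_mul,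
        ← DiffLib.mul_ev]
      simp [Φ, mul_comm]
  have hsurj : Function.Surjective Φ := by
    intro z
    obtain ⟨w, hw⟩ := (Module.Invertible.linearEquiv B (Disc.Omega A B)).surjective z
    suffices h : ∀ w, ∃ l, Φ l = Module.Invertible.linearEquiv B (Disc.Omega A B) w by
      obtain ⟨l, hl⟩ := h w
      exact ⟨l, hl.trans hw⟩
    intro w
    induction w using TensorProduct.induction_on with
    | zero => exact ⟨0, by simp⟩
    | add x y hx hy =>
      obtain ⟨l, hl⟩ := hx
      obtain ⟨m, hm⟩ := hy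
      exact ⟨l + m, by rw [map_add, map_add, hl, hm]⟩
    | tmul Ψ l =>
      obtain ⟨s, hs⟩ := Ideal.mem_span_singleton'.mp (hJ ▸ DiffLib.mkXi_mem b Ψ)
      refine ⟨Algebra.TensorProduct.lmul' A s • l, ?_⟩
      rw [map_smul, smul_eq_mul, ← hgen, hs, DiffLib.ev_mkXi]
      rfl
  let e := (LinearEquiv.ofBijective Φ (Module.Invertible.bijective_of_surjective hsurj)).symm
  refine ⟨e, (LinearEquiv.symm_apply_eq _).2 ?_⟩
  show _ = Φ _
  rw [← DiffLib.lmul_mkXi b Φ]
  exact congrArg _ (DiffLib.eq_mkXi b ξ)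

end Groth.Agent.H1Tate
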